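import Mathlib
import Cfsg.Agent.Lib.H20.FrobGiven
import Cfsg.Agent.Lib.H1.FpfAction
import Cfsg.Agent.Lib.H4.NF.AbCyc

/-!
# Basic facts on Frobenius complements (helper4)

* `abCyc` : abelian subgroups of a Frobenius complement are cyclic;
* `commute_of_pq` : two elements of distinct prime orders, one normalizing the cyclic group
  generated by the other, commute.
-/

set_option autoImplicit false

namespace Cfsg.Agent.Lib.H4.FC

open Cfsg Subgroup

/-- the order of a join `H K` with `H ≤ N(K)` divides `|H| |K|`. -/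
theorem card_sup_dvd_mul {G : Type*} [Group G] [Finite G] (H K : Subgroup G)
    (hLE : H ≤ Subgroup.normalizer (K : Set G)) :
    Nat.card (H ⊔ K : Subgroup G) ∣ Nat.card H * Nat.card K := by
  have hn1 := Subgroup.normal_subgroupOf_of_le_normalizer hLE
  have hn2 := Subgroup.normal_subgroupOf_sup_of_le_normalizer hLE
  have h0 : K.relIndex (H ⊔ K) = K.relIndex H :=
    Nat.card_congr (QuotientGroup.quotientInfEquivProdNormalizerQuotient H K hLE).toEquiv.symm
  have h1 : Nat.card K * K.relIndex (H ⊔ K) = Nat.card (H ⊔ K : Subgroup G) := by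
    have := Subgroup.relIndex_mul_relIndex ⊥ K (H ⊔ K) bot_le le_sup_right
    rwa [Subgroup.relIndex_bot_left, Subgroup.relIndex_bot_left] at this
  rw [← h1, h0, mul_comm]
  exact Nat.mul_dvd_mul_right (Subgroup.relIndex_dvd_card K H) _

variable {F : Type*} [Group F] [Finite F] {C : Subgroup F}

/-- abelian subgroups of a Frobenius complement are cyclic -/
theorem abCyc (hC : IsFrobeniusComplement C) : NF.AbCyc C := by
  intro K hK
  have h := Cfsg.Agent.Lib.H20.FG.isCyclic_of_comm hC
    (Cfsg.Agent.Lib.H18.coe_frobKer C hC).symm (K.map C.subtype) (map_subtype_le K) ?_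
  · exact isCyclic_of_surjective (K.equivMapOfInjective C.subtype C.subtype_injective).symm
      (MulEquiv.surjective _)
  · rintro a ha b hb
    obtain ⟨a', ha', rfl⟩ := mem_map.mp ha
    obtain ⟨b', hb', rfl⟩ := mem_map.mp hb
    have := hK.is_comm.comm ⟨a', ha'⟩ ⟨b', hb'⟩
    have h2 := congrArg Subtype.val this
    rw [← map_mul, ← map_mul]
    exact congrArg C.subtype h2

/-- two elements of distinct prime orders of a Frobenius complement, one normalizing the cyclic
group generated by the other, commute -/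
theorem commute_of_pq (hC : IsFrobeniusComplement C) {a b : F} (ha : a ∈ C) (hb : b ∈ C)
    {p q : ℕ} (hp : p.Prime) (hq : q.Prime) (hpq : p ≠ q) (hao : orderOf a = p)
    (hbo : orderOf b = q) (hnorm : a * b * a⁻¹ ∈ zpowers b) : a * b = b * a := by
  set N := Cfsg.Agent.Lib.H18.frobKer C hC with hNdef
  have hN : frobeniusKernel C = (N : Set F) := (Cfsg.Agent.Lib.H18.coe_frobKer C hC).symm
  haveI hNn : N.Normal := Cfsg.Agent.Lib.H20.FG.normal hC hN
  haveI hnil : Group.IsNilpotent N := Cfsg.Agent.Lib.H20.FG.nilpotent hC hN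
  have hNbot : N ≠ ⊥ := Cfsg.Agent.Lib.H20.FG.ne_bot hC hN
  haveI : Nontrivial N := (Subgroup.nontrivial_iff_ne_bot N).mpr hNbot
  have hZ : center N ≠ ⊥ := Group.IsNilpotent.center_ne_bot N
  set V : Subgroup F := (center N).map N.subtype with hV
  haveI hVn : V.Normal := ConjAct.normal_of_characteristic_of_normal
  have hVbot : V ≠ ⊥ := by
    intro h
    apply hZ
    rw [hV] at h
    exact (Subgroup.map_eq_bot_iff_of_injective _ N.subtype_injective).mp h
  have hVN : V ≤ N := map_subtype_le _
  haveI hVc : IsMulCommutative V := by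
    refine ⟨⟨?_⟩⟩
    rintro ⟨x, hx⟩ ⟨y, hy⟩
    obtain ⟨x', hx', rfl⟩ := mem_map.mp hx
    obtain ⟨y', hy', rfl⟩ := mem_map.mp hy
    apply Subtype.ext
    show N.subtype x' * N.subtype y' = N.subtype y' * N.subtype x'
    rw [← map_mul, ← map_mul]
    congr 1
    exact (Subgroup.mem_center_iff.mp hy' x')
  -- the group A = ⟨a⟩⟨b⟩
  set A : Subgroup F := zpowers a ⊔ zpowers b with hA
  have hAC : A ≤ C := sup_le (zpowers_le.mpr ha) (zpowers_le.mpr hb)
  have hAV : A ≤ Subgroup.normalizer (V : Set F) := by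
    rw [Subgroup.normalizer_eq_top_iff.2 hVn]; exact le_top
  have hfpf : ∀ x ∈ A, x ≠ 1 → V ⊓ Subgroup.centralizer {x} = ⊥ := by
    intro x hx hx1
    rw [Subgroup.eq_bot_iff_forall]
    intro n hn
    obtain ⟨hn1, hn2⟩ := Subgroup.mem_inf.mp hn
    rw [Subgroup.mem_centralizer_singleton_iff] at hn2
    exact Cfsg.Agent.Lib.H20.FG.fpf hC hN x (hAC hx) hx1 n (hVN hn1) hn2.symm
  -- a normalizes ⟨b⟩
  have hanorm : zpowers a ≤ Subgroup.normalizer ((zpowers b : Subgroup F) : Set F) := by
    rw [zpowers_le]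
    apply mem_normalizer_fintype
    intro n hn
    obtain ⟨k, rfl⟩ := mem_zpowers_iff.mp hn
    have : a * b ^ k * a⁻¹ = (a * b * a⁻¹) ^ k := by
      rw [conj_zpow]
    rw [this]
    exact zpow_mem hnorm k
  have hdvd : Nat.card A ∣ p * q := by
    have := card_sup_dvd_mul (zpowers a) (zpowers b) hanorm
    rwa [Nat.card_zpowers, Nat.card_zpowers, hao, hbo] at this
  have hpA : p ∣ Nat.card A := by
    have := Subgroup.card_dvd_of_le (le_sup_left : zpowers a ≤ A)
    rwa [Nat.card_zpowers, hao] at this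
  have hqA : q ∣ Nat.card A := by
    have := Subgroup.card_dvd_of_le (le_sup_right : zpowers b ≤ A)
    rwa [Nat.card_zpowers, hbo] at this
  have hcard : Nat.card A = p * q := by
    apply Nat.dvd_antisymm hdvd
    exact Nat.Coprime.mul_dvd_of_dvd_of_dvd ((Nat.coprime_primes hp hq).mpr hpq) hpA hqA
  have hcyc : IsCyclic A :=
    Cfsg.Agent.Lib.H1.isCyclic_of_fpf_of_card_pq hVbot hAV hfpf hp hq hcard
  have haA : a ∈ A := (le_sup_left : zpowers a ≤ A) (mem_zpowers a)
  have hbA : b ∈ A := (le_sup_right : zpowers b ≤ A) (mem_zpowers b)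
  haveI := hcyc
  have hc : IsMulCommutative A := IsCyclic.isMulCommutative
  have := hc.is_comm.comm (⟨a, haA⟩ : A) ⟨b, hbA⟩
  exact congrArg Subtype.val this

/-- transport: abelian subgroups of a group isomorphic to a Frobenius complement are cyclic -/
theorem abCyc_of_iso {G L : Type*} [Group G] [Group L] [Finite L] {H : Subgroup L}
    (hH : IsFrobeniusComplement H) (e : G ≃* H) : NF.AbCyc G :=
  (abCyc hH).of_injective e.toMonoidHom e.injective

/-- transport of `commute_of_pq` -/
theorem commute_of_pq_of_iso {G L : Type*} [Group G] [Group L] [Finite L] {H : Subgroup L}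
    (hH : IsFrobeniusComplement H) (e : G ≃* H) {a b : G}
    {p q : ℕ} (hp : p.Prime) (hq : q.Prime) (hpq : p ≠ q) (hao : orderOf a = p)
    (hbo : orderOf b = q) (hnorm : a⁻¹ * b * a ∈ zpowers b) : a * b = b * a := by
  set ι : G →* L := H.subtype.comp e.toMonoidHom with hι
  have hinj : Function.Injective ι := H.subtype_injective.comp e.injective
  have hmem : ∀ g, ι g ∈ H := fun g => (e g).2
  have h1 : ι a⁻¹ * ι b = ι b * ι a⁻¹ := by
    apply commute_of_pq hH (hmem _) (hmem _) hp hq hpq
    · rw [orderOf_injective ι hinj, orderOf_inv, hao]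
    · rw [orderOf_injective ι hinj, hbo]
    · rw [← map_inv, inv_inv, ← map_mul, ← map_mul]
      obtain ⟨k, hk⟩ := mem_zpowers_iff.mp hnorm
      rw [← hk, map_zpow]
      exact zpow_mem (mem_zpowers _) k
  rw [← map_mul, ← map_mul] at h1
  have h2 := hinj h1
  calc a * b = a * (b * a⁻¹) * a := by group
    _ = a * (a⁻¹ * b) * a := by rw [h2]
    _ = b * a := by group

end Cfsg.Agent.Lib.H4.FC
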