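import Mathlib
import Cfsg.Agent.Lib.H4.NF.AbCyc
import Cfsg.Agent.Lib.H4.NF.Cent24
import Cfsg.Agent.Lib.H4.NF.NormalQuat
import Cfsg.Agent.Lib.H4.Idx2.Frob2
import Cfsg.Agent.Lib.H4.Idx2.Lin
import Cfsg.Agent.S3742

/-!
# The normal subgroup `G₀` of a solvable group whose abelian subgroups are cyclic (helper4)

A finite solvable group all of whose abelian subgroups are cyclic has a normal subgroup `G₀`,
kernel of a homomorphism to `Sym(4)`, all of whose Sylow subgroups are cyclic.
-/

set_option autoImplicit false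

namespace Cfsg.Agent.Lib.H4.FC

open Subgroup Cfsg.Agent.Lib.H4.NF Cfsg.Agent.Lib.H4.Idx2 Cfsg.Agent.Lib.L0

/-- a normal subgroup of index at most `4` is the kernel of a homomorphism to `Sym(4)` -/
theorem exists_hom_of_index_le {G : Type*} [Group G] (G₀ : Subgroup G) [G₀.Normal]
    (h0 : G₀.index ≠ 0) (h : G₀.index ≤ 4) : ∃ f : G →* Equiv.Perm (Fin 4), f.ker = G₀ := by
  classical
  haveI : Finite (G ⧸ G₀) := by
    apply Nat.finite_of_card_ne_zero
    rwa [← Subgroup.index_eq_card]
  haveI := Fintype.ofFinite (G ⧸ G₀)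
  have hcard : Fintype.card (G ⧸ G₀) ≤ Fintype.card (Fin 4) := by
    rw [← Nat.card_eq_fintype_card, ← Subgroup.index_eq_card, Fintype.card_fin]
    exact h
  obtain ⟨ε⟩ := Function.Embedding.nonempty_of_card_le hcard
  refine ⟨(Equiv.Perm.viaEmbeddingHom ε).comp
    ((MulAction.toPermHom (G ⧸ G₀) (G ⧸ G₀)).comp (QuotientGroup.mk' G₀)), ?_⟩
  ext g
  rw [MonoidHom.mem_ker, MonoidHom.comp_apply, MonoidHom.comp_apply]
  rw [← map_one (Equiv.Perm.viaEmbeddingHom ε), (Equiv.Perm.viaEmbeddingHom_injective ε).eq_iff]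
  rw [← map_one (MulAction.toPermHom (G ⧸ G₀) (G ⧸ G₀))]
  have hinj : Function.Injective (MulAction.toPermHom (G ⧸ G₀) (G ⧸ G₀)) :=
    MulAction.toPerm_injective
  rw [hinj.eq_iff, QuotientGroup.mk'_apply, QuotientGroup.eq_one_iff]

/-- a `2`-group whose abelian subgroups are cyclic has a cyclic normal subgroup of index at most
two -/
theorem exists_cyclic_index_le_two {Q : Type*} [Group Q] [Finite Q] (h : AbCyc Q)
    (hQ : IsPGroup 2 Q) : ∃ D : Subgroup Q, D.Normal ∧ IsCyclic D ∧ D.index ≠ 0 ∧ D.index ≤ 2 := by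
  haveI : Fact (Nat.Prime 2) := ⟨Nat.prime_two⟩
  rcases cyclic_or_quat h hQ with hc | ⟨-, n, ⟨e⟩⟩
  · refine ⟨⊤, inferInstance, ?_, ?_, ?_⟩
    · exact isCyclic_of_surjective (Subgroup.topEquiv (G := Q)).symm (MulEquiv.surjective _)
    · rw [Subgroup.index_top]; exact one_ne_zero
    · rw [Subgroup.index_top]; norm_num
  · have hidx : (zpowers (QuaternionGroup.a 1 : QuaternionGroup (2 ^ n))).index = 2 := by
      have h1 := (zpowers (QuaternionGroup.a 1 : QuaternionGroup (2 ^ n))).card_mul_index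
      rw [Nat.card_zpowers, QuaternionGroup.orderOf_a_one, Nat.card_eq_fintype_card,
        QuaternionGroup.card] at h1
      have hpos : 0 < 2 ^ n := by positivity
      have h2 : 2 * 2 ^ n * (zpowers (QuaternionGroup.a 1 : QuaternionGroup (2 ^ n))).index
          = 2 * 2 ^ n * 2 := by rw [h1]; ring
      exact Nat.eq_of_mul_eq_mul_left (by positivity) h2
    set D : Subgroup Q := (zpowers (QuaternionGroup.a 1 : QuaternionGroup (2 ^ n))).comap
      e.toMonoidHom with hD
    have hDidx : D.index = 2 := by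
      rw [hD, Subgroup.index_comap_of_surjective _ e.surjective]
      exact hidx
    refine ⟨D, Subgroup.normal_of_index_eq_two hDidx, ?_, ?_, ?_⟩
    · have : D = zpowers (e.symm (QuaternionGroup.a 1)) := by
        ext x
        rw [hD, Subgroup.mem_comap, mem_zpowers_iff, mem_zpowers_iff]
        constructor
        · rintro ⟨k, hk⟩
          refine ⟨k, ?_⟩
          rw [← map_zpow, hk]
          exact e.symm_apply_apply x
        · rintro ⟨k, hk⟩
          refine ⟨k, ?_⟩
          rw [← hk, map_zpow]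
          simp
      rw [this]
      infer_instance
    · rw [hDidx]; norm_num
    · rw [hDidx]

/-- the case of a normal `2`-complement -/
theorem exists_G0_of_frobHyp {G : Type*} [Group G] [Finite G] (h : AbCyc G)
    (hF : FrobHyp 2 G) :
    ∃ G₀ : Subgroup G, G₀.Normal ∧ (∃ f : G →* Equiv.Perm (Fin 4), f.ker = G₀) ∧
      ∀ T : Subgroup G, T ≤ G₀ → IsPGroup 2 T → IsCyclic T := by
  haveI : Fact (Nat.Prime 2) := ⟨Nat.prime_two⟩
  obtain ⟨P, K, hKn, hcompl⟩ := hasNormalPComplement_of_frobHyp hF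
  have e : G ⧸ K ≃* (P : Subgroup G) := hcompl.symm.QuotientMulEquiv
  have hab : AbCyc (G ⧸ K) := (h.subgroup (P : Subgroup G)).of_injective e.toMonoidHom e.injective
  have hQ2 : IsPGroup 2 (G ⧸ K) := P.2.of_equiv e.symm
  obtain ⟨D, hDn, hDc, hD0, hD2⟩ := exists_cyclic_index_le_two hab hQ2
  set G₀ : Subgroup G := D.comap (QuotientGroup.mk' K) with hG₀
  haveI hG₀n : G₀.Normal := hDn.comap _
  have hidx : G₀.index = D.index := by
    rw [hG₀, Subgroup.index_comap_of_surjective _ (QuotientGroup.mk'_surjective K)]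
  refine ⟨G₀, hG₀n, exists_hom_of_index_le G₀ (by rwa [hidx]) (by rw [hidx]; omega), ?_⟩
  intro T hT hT2
  -- `K` has odd order
  have hKodd : ¬ 2 ∣ Nat.card K := by
    have h1 : (P : Subgroup G).index = Nat.card K := hcompl.index_eq_card
    rw [← h1]
    exact P.not_dvd_index
  let φ : T →* D := ((QuotientGroup.mk' K).comp T.subtype).codRestrict D (fun t => hT t.2)
  have hφ : Function.Injective φ := by
    rw [injective_iff_map_eq_one]
    intro t ht
    have h1 : (QuotientGroup.mk' K) (t : G) = 1 := congrArg Subtype.val ht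
    rw [QuotientGroup.mk'_apply, QuotientGroup.eq_one_iff] at h1
    obtain ⟨k, hk⟩ := hT2 t
    have h2 : orderOf (t : G) ∣ 2 ^ k := by
      apply orderOf_dvd_of_pow_eq_one
      have := congrArg Subtype.val hk
      simpa using this
    have h3 : orderOf (t : G) ∣ Nat.card K := by
      have := orderOf_dvd_natCard (⟨(t : G), h1⟩ : K)
      rwa [Subgroup.orderOf_mk] at this
    have hcop : Nat.Coprime (2 ^ k) (Nat.card K) :=
      Nat.Coprime.pow_left k ((Nat.Prime.coprime_iff_not_dvd Nat.prime_two).mpr hKodd)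
    have h4 : orderOf (t : G) = 1 := Nat.eq_one_of_dvd_coprimes hcop h2 h3
    exact Subtype.ext (orderOf_eq_one_iff.mp h4)
  haveI := hDc
  exact isCyclic_of_injective φ hφ

/-- without a normal `2`-complement there is a normal quaternion subgroup of order `8` -/
theorem exists_normal_Q8_of_not_frobHyp {G : Type*} [Group G] [Finite G] (h : AbCyc G)
    [hs : Group.IsSolvable G] (hF : ¬ FrobHyp 2 G) :
    ∃ Q : Subgroup G, Q.Normal ∧ Nonempty (Q ≃* QuaternionGroup 2) := by
  obtain ⟨Q, g, d⟩ := exists_qdata_of_not_frobHyp h hF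
  obtain ⟨A, hA⟩ := exists_maximal_of_wellFoundedGT
    (fun B : Subgroup G => B.Normal ∧ IsMulCommutative B) ⟨⊥, inferInstance, inferInstance⟩
  obtain ⟨⟨hAn, hAc⟩, hAmax'⟩ := hA
  have hAmax : ∀ B : Subgroup G, B.Normal → IsMulCommutative B → A ≤ B → B = A := by
    intro B hBn hBc hAB
    exact le_antisymm (hAmax' ⟨hBn, hBc⟩ hAB) hAB
  have hAC : A ≤ centralizer (A : Set G) := le_centralizer_iff_isMulCommutative.mpr hAc
  by_cases hne : A = centralizer (A : Set G)
  · exfalso
    haveI : IsCyclic A := h A hAc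
    apply d.false_of_abelian_normal h A
    · intro s hs t ht
      exact congrArg Subtype.val (hAc.is_comm.comm (⟨s, hs⟩ : A) ⟨t, ht⟩)
    · intro x
      rw [hne]
      exact commutator_mem_centralizer_of_isCyclic A x g
  · obtain ⟨Q₁, hQ₁n, -, hQ₁e⟩ :=
      exists_normal_Q8 h A hAc hAmax (centralizer (A : Set G)) hAC hne le_rfl
    exact ⟨Q₁, hQ₁n, hQ₁e⟩

/-- `2`-subgroups centralizing a quaternion subgroup of order `8` are cyclic -/
theorem isCyclic_of_le_centralizer_Q8 {G : Type*} [Group G] [Finite G] (h : AbCyc G)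
    (Q : Subgroup G) (e : Q ≃* QuaternionGroup 2) (T : Subgroup G)
    (hT : T ≤ centralizer (Q : Set G)) (hT2 : IsPGroup 2 T) : IsCyclic T := by
  set x : G := ((e.symm (QuaternionGroup.a 1) : Q) : G) with hx
  set y : G := ((e.symm (QuaternionGroup.xa 0) : Q) : G) with hy
  have hxo : orderOf x = 4 := by
    rw [hx, Subgroup.orderOf_coe, MulEquiv.orderOf_eq, QuaternionGroup.orderOf_a_one]
  have hyo : orderOf y = 4 := by
    rw [hy, Subgroup.orderOf_coe, MulEquiv.orderOf_eq, QuaternionGroup.orderOf_xa]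
  have hxy : x * y ≠ y * x := by
    intro hc
    have h1 : (e.symm (QuaternionGroup.a 1) * e.symm (QuaternionGroup.xa 0) : Q) =
        e.symm (QuaternionGroup.xa 0) * e.symm (QuaternionGroup.a 1) := Subtype.ext hc
    rw [← map_mul, ← map_mul] at h1
    have h2 := e.symm.injective h1
    revert h2
    decide
  have hle : T ≤ zpowers x := by
    intro t ht
    have htx : x * t = t * x := by
      have := hT ht
      rw [Subgroup.mem_centralizer_iff] at this
      exact this x (e.symm (QuaternionGroup.a 1)).2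
    have hty : y * t = t * y := by
      have := hT ht
      rw [Subgroup.mem_centralizer_iff] at this
      exact this y (e.symm (QuaternionGroup.xa 0)).2
    obtain ⟨k, hk⟩ := hT2 ⟨t, ht⟩
    have hk' : t ^ 2 ^ k = 1 := by
      have := congrArg Subtype.val hk
      simpa using this
    obtain ⟨j, -, hj⟩ := (Nat.dvd_prime_pow Nat.prime_two).mp (orderOf_dvd_of_pow_eq_one hk')
    rcases Nat.lt_or_ge j 3 with hj3 | hj3
    · apply h.mem_zpowers x t htx
      rw [hxo]
      have : orderOf t ∣ 4 := by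
        rw [hj]
        exact pow_dvd_pow 2 (show j ≤ 2 by omega)
      exact orderOf_dvd_iff_pow_eq_one.mp this
    · exfalso
      have h4 : 4 ∣ orderOf t := by
        rw [hj]
        exact pow_dvd_pow 2 (show 2 ≤ j by omega)
      have hx' : x ∈ zpowers t := by
        apply h.mem_zpowers t x htx.symm
        apply orderOf_dvd_iff_pow_eq_one.mp
        rw [hxo]; exact h4
      have hy' : y ∈ zpowers t := by
        apply h.mem_zpowers t y hty.symm
        apply orderOf_dvd_iff_pow_eq_one.mp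
        rw [hyo]; exact h4
      obtain ⟨a, ha⟩ := mem_zpowers_iff.mp hx'
      obtain ⟨b, hb⟩ := mem_zpowers_iff.mp hy'
      apply hxy
      rw [← ha, ← hb]
      exact zpow_mul_comm t a b
  have : IsCyclic (zpowers x) := inferInstance
  exact isCyclic_of_injective (Subgroup.inclusion hle) (Subgroup.inclusion_injective hle)

/-- the case without a normal `2`-complement -/
theorem exists_G0_of_not_frobHyp {G : Type*} [Group G] [Finite G] (h : AbCyc G)
    [hs : Group.IsSolvable G] (hF : ¬ FrobHyp 2 G) :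
    ∃ G₀ : Subgroup G, G₀.Normal ∧ (∃ f : G →* Equiv.Perm (Fin 4), f.ker = G₀) ∧
      ∀ T : Subgroup G, T ≤ G₀ → IsPGroup 2 T → IsCyclic T := by
  obtain ⟨Q, hQn, ⟨e⟩⟩ := exists_normal_Q8_of_not_frobHyp h hF
  obtain ⟨ψ⟩ := Cfsg.Agent.S3742.result
  let f : G →* Equiv.Perm (Fin 4) :=
    ψ.toMonoidHom.comp ((MulAut.congr e).toMonoidHom.comp (MulAut.conjNormal (H := Q)))
  refine ⟨f.ker, inferInstance, ⟨f, rfl⟩, ?_⟩
  intro T hT hT2
  apply isCyclic_of_le_centralizer_Q8 h Q e T _ hT2
  intro t ht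
  have h1 : f t = 1 := hT ht
  have h2 : MulAut.conjNormal (H := Q) t = 1 := by
    have h3 : ψ ((MulAut.congr e) (MulAut.conjNormal (H := Q) t)) = 1 := h1
    have h4 := ψ.injective (h3.trans (map_one ψ).symm)
    exact (MulAut.congr e).injective (h4.trans (map_one _).symm)
  rw [Subgroup.mem_centralizer_iff]
  intro q hq
  have h5 := congrArg (fun g : MulAut Q => ((g ⟨q, hq⟩ : Q) : G)) h2
  simp only [MulAut.conjNormal_apply, MulAut.one_apply] at h5
  calc q * t = (t * q * t⁻¹) * t := by rw [h5]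
    _ = t * q := by group

/-- the normal subgroup `G₀` -/
theorem exists_G0 {G : Type*} [Group G] [Finite G] (h : AbCyc G) [hs : Group.IsSolvable G] :
    ∃ G₀ : Subgroup G, G₀.Normal ∧ (∃ f : G →* Equiv.Perm (Fin 4), f.ker = G₀) ∧
      ∀ (p : ℕ) [Fact p.Prime] (P : Sylow p G₀), IsCyclic P := by
  obtain ⟨G₀, hn, hf, h2⟩ : ∃ G₀ : Subgroup G, G₀.Normal ∧
      (∃ f : G →* Equiv.Perm (Fin 4), f.ker = G₀) ∧
      ∀ T : Subgroup G, T ≤ G₀ → IsPGroup 2 T → IsCyclic T := by
    by_cases hF : FrobHyp 2 G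
    · exact exists_G0_of_frobHyp h hF
    · exact exists_G0_of_not_frobHyp h hF
  refine ⟨G₀, hn, hf, ?_⟩
  intro p hp P
  have hab : AbCyc P := h.of_injective (G₀.subtype.comp (P : Subgroup G₀).subtype)
    (G₀.subtype_injective.comp (Subgroup.subtype_injective _))
  rcases cyclic_or_quat hab P.2 with hc | ⟨h2', -⟩
  · exact hc
  · subst h2'
    have hT : IsCyclic ((P : Subgroup G₀).map G₀.subtype) :=
      h2 _ (map_subtype_le _) (P.2.map _)
    exact isCyclic_of_surjective
      ((P : Subgroup G₀).equivMapOfInjective G₀.subtype G₀.subtype_injective).symm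
      (MulEquiv.surjective _)

end Cfsg.Agent.Lib.H4.FC
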